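import Mathlib

/-! Derivations applied to the coefficients of polynomials. -/

set_option autoImplicit false
universe u v

namespace Groth.RamGeneric

open Polynomial

variable {k : Type u} [CommRing k] {E : Type v} [CommRing E] [Algebra k E]

/-- Apply a derivation to the coefficients. -/
noncomputable def dC (D : Derivation k E E) (p : E[X]) : E[X] := p.sum fun i a => C (D a) * X ^ i

variable (D D' : Derivation k E E) (p q : E[X])

theorem coeff_dC (l : ℕ) : (dC D p).coeff l = D (p.coeff l) := by
  rw [dC, Polynomial.sum_def, finset_sum_coeff]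
  simp only [coeff_C_mul_X_pow]
  rw [Finset.sum_ite_eq]
  split_ifs with h
  · rfl
  · rw [notMem_support_iff.1 h, map_zero]

theorem dC_add : dC D (p + q) = dC D p + dC D q := by
  ext l; simp [coeff_dC]

theorem dC_sub : dC D (p - q) = dC D p - dC D q := by
  ext l; simp [coeff_dC]

theorem add_dC : dC (D + D') p = dC D p + dC D' p := by
  ext l; simp [coeff_dC]

theorem smul_dC (a : E) : dC (a • D) p = C a * dC D p := by
  ext l; simp [coeff_dC]

theorem dC_C (a : E) : dC D (C a) = C (D a) := by
  ext l; rcases eq_or_ne l 0 with rfl | h <;> simp [coeff_dC, coeff_C, *]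

theorem dC_X : dC D X = 0 := by
  ext l; rcases eq_or_ne l 1 with rfl | h <;> simp [coeff_dC, coeff_X, *, Ne.symm]

theorem dC_mul : dC D (p * q) = dC D p * q + p * dC D q := by
  ext l
  simp only [coeff_dC, coeff_add, coeff_mul, map_sum, ← Finset.sum_add_distrib]
  refine Finset.sum_congr rfl fun x _ => ?_
  simp only [coeff_dC, Derivation.leibniz, smul_eq_mul]
  ring

theorem dC_pow_succ (m : ℕ) : dC D (p ^ (m + 1)) = C ((m + 1 : ℕ) : E) * p ^ m * dC D p := by
  induction m with
  | zero => simp
  | succ m ih =>
    rw [pow_succ p (m + 1), dC_mul, ih]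
    simp only [map_natCast]
    push_cast
    ring

theorem natDegree_dC_le : (dC D p).natDegree ≤ p.natDegree :=
  natDegree_le_iff_coeff_eq_zero.2 fun l hl => by
    rw [coeff_dC, coeff_eq_zero_of_natDegree_lt hl, map_zero]

end Groth.RamGeneric
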