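import Mathlib
import Groth.Agent.RamGeneric.Deriv
import Groth.Agent.Misc6.Pencil3
import Groth.Agent.Variety2.BertiniJets

/-! A field over which a pencil with prescribed tame ramification is defined has transcendence degree at
most the number of ramification points. -/

set_option autoImplicit false
universe u

namespace Groth.RamGeneric

open Polynomial

variable {k E : Type u} [Field k] [IsAlgClosed k] [Field E] [Algebra k E] [Algebra.EssFiniteType k E]
variable {n d m : ℕ}

theorem bound (P : Fin n → E) (e : Fin n → ℕ) (F G : E[X]) (hP : Function.Injective P) (he1 : ∀ i, 1 ≤ e i)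
    (hep : ∀ i, (e i : E) ≠ 0) (hsum : (∑ i, e i) + 2 = 2 * d + n)
    (hF : F.natDegree = m) (hFm : F.coeff m = 1) (hm : m < d) (hG : G.natDegree ≤ d) (hGd : G.coeff d = 1)
    (hGm : G.coeff m = 0) (hW : wronskian F G ≠ 0)
    (hram : ∀ i a b, a < e i → b < e i →
      (taylor (P i) F).coeff a * (taylor (P i) G).coeff b = (taylor (P i) F).coeff b * (taylor (P i) G).coeff a)
    (hbpf : ∀ i, F.eval (P i) ≠ 0 ∨ G.eval (P i) ≠ 0)
    (hgen : ∀ D : Derivation k E E, (∀ l, D (F.coeff l) = 0) → (∀ l, D (G.coeff l) = 0) →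
      (∀ i, D (P i) = 0) → D = 0) :
    Algebra.trdeg k E ≤ n ∧ ((∃ i j, i ≠ j ∧ F.eval (P i) * G.eval (P j) = F.eval (P j) * G.eval (P i)) →
      Algebra.trdeg k E < n) := by
  classical
  -- choose a scalar so that no point is a pole
  obtain ⟨γ, hγ⟩ : ∃ γ : k, ∀ i, (G + C (algebraMap k E γ) * F).eval (P i) ≠ 0 := by
    let S : Set k := ⋃ i, {γ | (G + C (algebraMap k E γ) * F).eval (P i) = 0}
    have hS : S.Finite := Set.finite_iUnion fun i => by
      refine Set.Subsingleton.finite fun a ha b hb => ?_
      simp only [Set.mem_setOf_eq, eval_add, eval_mul, eval_C] at ha hb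
      rcases hbpf i with h | h
      · have : (algebraMap k E a - algebraMap k E b) * F.eval (P i) = 0 := by linear_combination ha - hb
        exact (algebraMap k E).injective (sub_eq_zero.1 ((mul_eq_zero.1 this).resolve_right h))
      · by_contra hne
        have : (algebraMap k E a - algebraMap k E b) * F.eval (P i) = 0 := by linear_combination ha - hb
        rcases mul_eq_zero.1 this with h1 | h1
        · exact hne ((algebraMap k E).injective (sub_eq_zero.1 h1))
        · exact h (by simpa [h1] using ha)
    obtain ⟨γ, hγ⟩ := hS.exists_notMem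
    exact ⟨γ, fun i hi => hγ (Set.mem_iUnion.2 ⟨i, hi⟩)⟩
  set γ' := algebraMap k E γ with hγ'
  set G1 := G + C γ' * F with hG1def
  have hFd : F.coeff d = 0 := coeff_eq_zero_of_natDegree_lt (hF ▸ hm)
  have hG1 : G1.natDegree ≤ d :=
    natDegree_add_le_of_degree_le hG ((natDegree_C_mul_le _ _).trans (hF ▸ hm.le))
  have hG1d : G1.coeff d = 1 := by simp [hG1def, hGd, hFd]
  have hG1m : G1.coeff m = γ' := by simp [hG1def, hGm, hFm]
  have hW1 : wronskian F G1 = wronskian F G := by
    simp only [hG1def, wronskian, derivative_add, derivative_mul, derivative_C, zero_mul, zero_add]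
    ring
  let c : Fin n → E := fun i => F.eval (P i) / G1.eval (P i)
  let Z : Fin n → E[X] := fun i => F - C (c i) * G1
  have hZdvd : ∀ i, (X - C (P i)) ^ e i ∣ Z i := fun i => by
    rw [X_sub_C_pow_dvd_iff, ← taylor_apply, X_pow_dvd_iff]
    intro a ha
    have h := hram i a 0 ha (he1 i)
    simp only [taylor_coeff_zero] at h
    have hg := hγ i
    simp only [hG1def, eval_add, eval_mul, eval_C] at hg
    have e1 : (taylor (P i) (Z i)).coeff a = (taylor (P i) F).coeff a -
        c i * ((taylor (P i) G).coeff a + γ' * (taylor (P i) F).coeff a) := by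
      simp [Z, hG1def]
    have e2 : c i * (G.eval (P i) + γ' * F.eval (P i)) = F.eval (P i) := by
      simp only [c, hG1def, eval_add, eval_mul, eval_C]
      exact div_mul_cancel₀ _ hg
    rw [e1]
    refine (mul_eq_zero.1 (?_ : (G.eval (P i) + γ' * F.eval (P i)) * _ = 0)).resolve_left hg
    linear_combination h - ((taylor (P i) G).coeff a + γ' * (taylor (P i) F).coeff a) * e2
  have hWZ : ∀ i, wronskian (Z i) G1 = wronskian F G := fun i => by
    rw [← hW1]
    simp only [Z, wronskian, derivative_sub, derivative_mul, derivative_C, zero_mul, zero_add]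
    ring
  have hWdvd : ∀ i, (X - C (P i)) ^ (e i - 1) ∣ wronskian F G := fun i =>
    hWZ i ▸ Groth.Misc6.Pencil.pow_sub_one_dvd_wronskian G1 (hZdvd i)
  have hcop : ∀ f : Fin n → ℕ, Pairwise (Function.onFun IsCoprime fun i => (X - C (P i)) ^ f i) :=
    fun f i j hij => (pairwise_coprime_X_sub_C hP hij).pow
  have hdvdprod : ∀ (f : Fin n → ℕ) (p : E[X]), (∀ i, (X - C (P i)) ^ f i ∣ p) → ∏ i, (X - C (P i)) ^ f i ∣ p :=
    fun f p h => Finset.prod_dvd_of_coprime (fun i _ j _ hij => hcop f hij) fun i _ => h i
  have hdegprod : ∀ f : Fin n → ℕ, (∏ i, (X - C (P i)) ^ f i).natDegree = ∑ i, f i := fun f => by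
    rw [natDegree_prod_of_monic _ _ fun i _ => (monic_X_sub_C _).pow _]
    simp [natDegree_pow]
  set Pi0 := ∏ i, (X - C (P i)) ^ (e i - 1) with hPi0
  have hPimonic : Pi0.Monic := monic_prod_of_monic _ _ fun i _ => (monic_X_sub_C _).pow _
  have hse : ∑ i, (e i - 1) = 2 * d - 2 := by
    have h1 : ∑ i, (e i - 1) + n = ∑ i, e i := by
      conv_lhs => arg 2; rw [show n = ∑ _i : Fin n, 1 by simp]
      rw [← Finset.sum_add_distrib]
      exact Finset.sum_congr rfl fun i _ => Nat.sub_add_cancel (he1 i)
    omega
  have hWdeg : (wronskian F G).natDegree ≤ 2 * d - 2 :=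
    Groth.Misc6.Pencil.natDegree_wronskian_le (hF ▸ hm.le) hG
  obtain ⟨q, hq⟩ := hdvdprod _ _ hWdvd
  have hq0 : q ≠ 0 := fun h => hW (by rw [hq, h, mul_zero])
  have hqdeg : q.natDegree = 0 := by
    have := natDegree_mul hPimonic.ne_zero hq0
    rw [← hPi0] at hq
    rw [← hq, hdegprod, hse] at this
    omega
  obtain ⟨w, rfl⟩ := natDegree_eq_zero.1 hqdeg
  have hw : w ≠ 0 := by simpa using hq0
  -- exact order
  have hexact : ∀ i, ¬ (X - C (P i)) ^ (e i + 1) ∣ Z i := fun i h => by
    have h1 : (X - C (P i)) ^ (e i + 1 - 1) ∣ wronskian F G :=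
      hWZ i ▸ Groth.Misc6.Pencil.pow_sub_one_dvd_wronskian G1 h
    have h2 := hdvdprod (fun j => if j = i then e j else e j - 1) _ fun j => by
      rcases eq_or_ne j i with rfl | hji
      · simpa using h1
      · simpa [hji] using hWdvd j
    have h3 := natDegree_le_of_dvd h2 hW
    rw [hdegprod, Fintype.sum_eq_add_sum_compl i, if_pos rfl, Finset.sum_congr rfl fun j hj =>
      if_neg (Finset.notMem_singleton.1 (Finset.mem_compl.1 hj))] at h3
    rw [Fintype.sum_eq_add_sum_compl i] at hse
    have := he1 i
    omega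
  -- coprimality
  have hcopFG : IsCoprime F G1 := by
    refine isCoprime_of_prime_dvd (fun h => ?_) fun p hp hpF hpG => ?_
    · rw [h.1, coeff_zero] at hFm; exact zero_ne_one hFm
    · have hpW : p ∣ wronskian F G := by
        rw [← hW1, wronskian]
        exact dvd_sub (hpF.mul_right _) (hpG.mul_left _)
      rw [hq] at hpW
      rcases hp.dvd_or_dvd hpW with h | h
      · obtain ⟨i, -, hi⟩ := hp.exists_mem_finset_dvd h
        have ha := (hp.irreducible.associated_of_dvd (irreducible_X_sub_C _) (hp.dvd_of_dvd_pow hi)).symm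
        exact hγ i (dvd_iff_isRoot.1 (ha.dvd.trans hpG))
      · exact hp.not_unit (isUnit_of_dvd_unit h (isUnit_C.2 hw.isUnit))
  -- the linear maps
  let qf : (Fin 3 → E) → E[X] := fun a => C (a 0) * F ^ 2 + C (a 1) * F * G1 + C (a 2) * G1 ^ 2
  let H : (Derivation k E E × (Fin 3 → E)) →ₗ[E] E[X] :=
    { toFun := fun x => dC x.1 F * G1 - F * dC x.1 G1 + qf x.2
      map_add' := fun x y => by
        simp only [Prod.fst_add, Prod.snd_add, add_dC, Pi.add_apply, map_add, qf]; ring
      map_smul' := fun a x => by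
        simp only [Prod.smul_fst, Prod.smul_snd, smul_dC, Pi.smul_apply, smul_eq_mul, map_mul, qf,
          RingHom.id_apply, Polynomial.smul_eq_C_mul]
        ring }
  let Φ : (Derivation k E E × (Fin 3 → E)) →ₗ[E] (Fin n → E) :=
    { toFun := fun x i => x.1 (c i) + (x.2 0 * c i ^ 2 + x.2 1 * c i + x.2 2)
      map_add' := fun x y => funext fun i => by
        simp only [Prod.fst_add, Prod.snd_add, Derivation.add_apply, Pi.add_apply]; ring
      map_smul' := fun a x => funext fun i => by
        simp only [Prod.smul_fst, Prod.smul_snd, Derivation.smul_apply, Pi.smul_apply, smul_eq_mul,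
          RingHom.id_apply]
        ring }
  have hker_dvd : ∀ x ∈ LinearMap.ker Φ, Pi0 ∣ H x := fun x hx => hdvdprod _ _ fun i => by
    obtain ⟨u, hu⟩ := hZdvd i
    have hΦ : x.1 (c i) + (x.2 0 * c i ^ 2 + x.2 1 * c i + x.2 2) = 0 := congrFun (LinearMap.mem_ker.1 hx) i
    have hFeq : F = Z i + C (c i) * G1 := by simp [Z]
    have hsplit : H x = G1 * dC x.1 (Z i) + C (x.1 (c i) + (x.2 0 * c i ^ 2 + x.2 1 * c i + x.2 2)) * G1 ^ 2 +
        Z i * (- dC x.1 G1 + C (x.2 0) * (Z i + 2 * C (c i) * G1) + C (x.2 1) * G1) := by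
      show dC x.1 F * G1 - F * dC x.1 G1 + qf x.2 = _
      rw [show dC x.1 (Z i) = dC x.1 F - (C (x.1 (c i)) * G1 + C (c i) * dC x.1 G1) by
        simp [Z, dC_sub, dC_mul, dC_C]]
      simp only [qf, map_add, map_mul, map_pow]
      rw [hFeq]
      ring
    rw [hsplit, hΦ, map_zero, zero_mul, add_zero]
    refine dvd_add (Dvd.dvd.mul_left ?_ _) (Dvd.dvd.mul_right ((pow_dvd_pow _ (Nat.sub_le _ _)).trans (hZdvd i)) _)
    obtain ⟨l, hl⟩ := Nat.exists_eq_add_of_le' (he1 i)
    rw [hu, hl, dC_mul, dC_pow_succ, Nat.add_sub_cancel, pow_succ]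
    exact dvd_add (((dvd_mul_left _ _).mul_right _).mul_right _) ((dvd_mul_right _ _).mul_right _)
  have hHdeg : ∀ x, (H x).natDegree ≤ 2 * d := fun x => by
    show (dC x.1 F * G1 - F * dC x.1 G1 + qf x.2).natDegree ≤ _
    have hFle : F.natDegree ≤ d := hF ▸ hm.le
    have := natDegree_dC_le x.1 F
    have := natDegree_dC_le x.1 G1
    refine natDegree_add_le_of_degree_le (natDegree_sub_le_iff_left ?_ |>.2 ?_) ?_
    · exact natDegree_mul_le.trans (by omega)
    · exact natDegree_mul_le.trans (by omega)
    · refine natDegree_add_le_of_degree_le (natDegree_add_le_of_degree_le ?_ ?_) ?_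
      · exact (natDegree_C_mul_le _ _).trans (natDegree_pow_le.trans (by omega))
      · exact natDegree_mul_le.trans (by have := natDegree_C_mul_le (x.2 1) F; omega)
      · exact (natDegree_C_mul_le _ _).trans (natDegree_pow_le.trans (by omega))
  have hker3 : Module.finrank E (LinearMap.ker Φ) ≤ 3 ∧ FiniteDimensional E (LinearMap.ker Φ) := by
    have hd : 1 ≤ d := by omega
    let V : Submodule E E[X] := (Polynomial.degreeLT E 3).map (LinearMap.mulLeft E Pi0)
    have hmem : ∀ x : LinearMap.ker Φ, H x.1 ∈ V := fun x => by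
      obtain ⟨v, hv⟩ := hker_dvd x.1 x.2
      refine ⟨v, ?_, hv.symm⟩
      rw [SetLike.mem_coe, mem_degreeLT]
      rcases eq_or_ne v 0 with rfl | hv0
      · rw [degree_zero]; exact WithBot.bot_lt_coe _
      have h1 := hHdeg x.1
      rw [hv, natDegree_mul hPimonic.ne_zero hv0, hPi0, hdegprod, hse] at h1
      rw [degree_eq_natDegree hv0]
      have : v.natDegree < 3 := by omega
      exact_mod_cast this
    let H' : LinearMap.ker Φ →ₗ[E] V := LinearMap.codRestrict V (H.comp (LinearMap.ker Φ).subtype) hmem
    have hinj : Function.Injective H' := by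
      rw [injective_iff_map_eq_zero]
      rintro ⟨⟨D, a⟩, hx⟩ h0
      have hH : dC D F * G1 - F * dC D G1 + qf a = 0 := congrArg Subtype.val h0
      have hdvd : G1 ∣ C (a 0) * F - dC D G1 := by
        refine hcopFG.symm.dvd_of_dvd_mul_left ⟨- (dC D F + C (a 1) * F + C (a 2) * G1), ?_⟩
        simp only [qf] at hH
        linear_combination hH
      have hG1deg : G1.natDegree = d := le_antisymm hG1 (le_natDegree_of_ne_zero (by rw [hG1d]; exact one_ne_zero))
      have hlt : C (a 0) * F - dC D G1 = 0 := by
        by_contra hne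
        have h1 := natDegree_le_of_dvd hdvd hne
        rw [hG1deg] at h1
        have h2 : (C (a 0) * F - dC D G1).natDegree ≤ d - 1 := natDegree_le_iff_coeff_eq_zero.2 fun l hl => by
          rw [coeff_sub, coeff_C_mul, coeff_dC, coeff_eq_zero_of_natDegree_lt (show F.natDegree < l by omega)]
          rcases eq_or_ne l d with rfl | hl'
          · rw [hG1d, D.map_one_eq_zero]; ring
          · rw [coeff_eq_zero_of_natDegree_lt (show G1.natDegree < l by omega), map_zero]; ring
        omega
      have ha0 : a 0 = 0 := by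
        have h1 := congrArg (fun p : E[X] => p.coeff m) hlt
        simp only [coeff_sub, coeff_C_mul, coeff_dC, hFm, hG1m, hγ', Derivation.map_algebraMap, coeff_zero] at h1
        simpa using h1
      have hDG1 : dC D G1 = 0 := by simpa [ha0] using hlt
      have h2 : (dC D F + C (a 1) * F + C (a 2) * G1) * G1 = 0 := by
        simp only [qf, hDG1, ha0, map_zero] at hH
        linear_combination hH
      have h3 : dC D F + C (a 1) * F + C (a 2) * G1 = 0 :=
        (mul_eq_zero.1 h2).resolve_right fun h => by rw [h, coeff_zero] at hG1d; exact zero_ne_one hG1d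
      have hcoeff : ∀ l, D (F.coeff l) + a 1 * F.coeff l + a 2 * G1.coeff l = 0 := fun l => by
        simpa [coeff_dC] using congrArg (fun p : E[X] => p.coeff l) h3
      have ha2 : a 2 = 0 := by simpa [hFd, hG1d] using hcoeff d
      have ha1 : a 1 = 0 := by simpa [ha2, hFm] using hcoeff m
      have hDF : ∀ l, D (F.coeff l) = 0 := fun l => by simpa [ha1, ha2] using hcoeff l
      have hDG : ∀ l, D (G.coeff l) = 0 := fun l => by
        have h1 := congrArg (fun p : E[X] => p.coeff l) hDG1
        simpa [coeff_dC, hG1def, hDF l, hγ'] using h1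
      have hDP : ∀ i, D (P i) = 0 := fun i => by
        obtain ⟨u, hu⟩ := hZdvd i
        have hc : D (c i) = 0 := by
          simpa [Φ, ha0, ha1, ha2] using congrFun (LinearMap.mem_ker.1 hx) i
        have hz : dC D (Z i) = 0 := by
          have : dC D F = 0 := by ext l; simp [coeff_dC, hDF l]
          simp [Z, dC_sub, dC_mul, dC_C, hc, this, hDG1]
        obtain ⟨l, hl⟩ := Nat.exists_eq_add_of_le' (he1 i)
        rw [hu, hl, dC_mul, dC_pow_succ, dC_sub, dC_X, dC_C, zero_sub, pow_succ] at hz
        have hz' : (X - C (P i)) ^ l * (C ((l + 1 : ℕ) : E) * - C (D (P i)) * u + (X - C (P i)) * dC D u) = 0 := by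
          linear_combination hz
        have hz'' := congrArg (eval (P i))
          ((mul_eq_zero.1 hz').resolve_left (pow_ne_zero _ (X_sub_C_ne_zero _)))
        simp only [eval_add, eval_mul, eval_C, eval_neg, eval_sub, eval_X, sub_self, zero_mul, add_zero,
          eval_zero, mul_eq_zero, neg_eq_zero] at hz''
        have hu0 : u.eval (P i) ≠ 0 := fun h => hexact i (by
          rw [hu, pow_succ]; exact mul_dvd_mul_left _ (dvd_iff_isRoot.2 h))
        have hn : ((l + 1 : ℕ) : E) ≠ 0 := hl ▸ hep i
        tauto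
      have hD : D = 0 := hgen D hDF hDG hDP
      have ha : a = 0 := funext fun l => by fin_cases l <;> assumption
      subst hD ha
      rfl
    haveI : Module.Finite E (Polynomial.degreeLT E 3) := Module.Finite.equiv (Polynomial.degreeLTEquiv E 3).symm
    haveI : Module.Finite E V := Module.Finite.map _ _
    refine ⟨(LinearMap.finrank_le_finrank_of_injective hinj).trans ((Submodule.finrank_map_le _ _).trans ?_),
      Module.Finite.of_injective H' hinj⟩
    rw [(Polynomial.degreeLTEquiv E 3).finrank_eq, Module.finrank_fin_fun]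
  -- dimension count
  let eD : (Ω[E⁄k] →ₗ[E] E) ≃ₗ[E] Derivation k E E := KaehlerDifferential.linearMapEquivDerivation k E
  haveI : Module.Finite E (Derivation k E E) := Module.Finite.equiv eD
  have hD : Module.finrank E (Derivation k E E) = Module.finrank E Ω[E⁄k] := by
    rw [← eD.finrank_eq]
    exact Subspace.dual_finrank_eq
  have htr := Groth.Variety2.Bertini.trdeg_le_finrank_kaehler k E
  have hrk := LinearMap.finrank_range_add_finrank_ker Φ
  rw [Module.finrank_prod, Module.finrank_fin_fun, hD] at hrk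
  constructor
  · refine htr.trans (Nat.cast_le.2 ?_)
    have := Submodule.finrank_le (LinearMap.range Φ)
    rw [Module.finrank_fin_fun] at this
    omega
  · rintro ⟨i, j, hij, hsep⟩
    refine htr.trans_lt (Nat.cast_lt.2 ?_)
    have hcij : c i = c j := by
      simp only [c]
      rw [div_eq_div_iff (hγ i) (hγ j)]
      simp only [hG1def, eval_add, eval_mul, eval_C]
      linear_combination hsep
    have hlt : Module.finrank E (LinearMap.range Φ) < n := by
      have hle : LinearMap.range Φ ≤ LinearMap.ker (LinearMap.proj (R := E) (φ := fun _ : Fin n => E) i -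
          LinearMap.proj j) := by
        rintro _ ⟨x, rfl⟩
        simp [Φ, hcij]
      refine (Submodule.finrank_mono hle).trans_lt ?_
      have hne : LinearMap.ker (LinearMap.proj (R := E) (φ := fun _ : Fin n => E) i - LinearMap.proj j) < ⊤ := by
        rw [lt_top_iff_ne_top, Ne, LinearMap.ker_eq_top]
        intro h
        have := LinearMap.congr_fun h (Pi.single i 1)
        simp [hij.symm] at this
      simpa using Submodule.finrank_lt hne.ne
    omega

end Groth.RamGeneric
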