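import Mathlib
import Groth.Agent.RamGeneric.Bound

/-! Charts on the space of pencils, and the finiteness of pencils with ramification at general points. -/

set_option autoImplicit false
universe u

namespace Groth.RamGeneric

open Polynomial W4c1limliniiii

variable {n d m : ℕ}

/-- The coordinates of a pencil with prescribed points in the chart `m`. -/
abbrev Sig (n d m : ℕ) : Type := Fin n ⊕ Fin m ⊕ {l : Fin d // l.1 ≠ m}

/-- The first member. -/
noncomputable def Fp {R : Type u} [CommRing R] (v : Sig n d m → R) : R[X] :=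
  X ^ m + ∑ l, C (v (.inr (.inl l))) * X ^ (l : ℕ)

/-- The second member. -/
noncomputable def Gp {R : Type u} [CommRing R] (v : Sig n d m → R) : R[X] :=
  X ^ d + ∑ l : {l : Fin d // l.1 ≠ m}, C (v (.inr (.inr l))) * X ^ (l.1 : ℕ)

section
variable {R : Type u} [CommRing R] (v : Sig n d m → R)

theorem map_Fp {S : Type u} [CommRing S] (φ : R →+* S) : (Fp v).map φ = Fp (φ ∘ v) := by
  simp [Fp, Polynomial.map_sum]

theorem map_Gp {S : Type u} [CommRing S] (φ : R →+* S) : (Gp v).map φ = Gp (φ ∘ v) := by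
  simp [Gp, Polynomial.map_sum]

theorem coeff_Fp (l : ℕ) :
    (Fp v).coeff l = if l = m then 1 else if h : l < m then v (.inr (.inl ⟨l, h⟩)) else 0 := by
  simp only [Fp, coeff_add, coeff_X_pow, finset_sum_coeff, coeff_C_mul_X_pow]
  by_cases hlm : l = m
  · subst hlm
    rw [if_pos rfl, Finset.sum_eq_zero fun x _ => if_neg (by omega), add_zero, if_pos rfl]
  · rw [if_neg hlm, zero_add, if_neg hlm]
    by_cases h : l < m
    · rw [dif_pos h, Finset.sum_eq_single ⟨l, h⟩ (fun x _ hx => if_neg fun h' => hx (Fin.ext h'.symm))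
        (fun hn => absurd (Finset.mem_univ _) hn), if_pos rfl]
    · rw [dif_neg h, Finset.sum_eq_zero fun x _ => if_neg (by omega)]

theorem coeff_Gp (l : ℕ) :
    (Gp v).coeff l = if l = d then 1 else if h : l < d ∧ l ≠ m then v (.inr (.inr ⟨⟨l, h.1⟩, h.2⟩)) else 0 := by
  simp only [Gp, coeff_add, coeff_X_pow, finset_sum_coeff, coeff_C_mul_X_pow]
  by_cases hld : l = d
  · subst hld
    rw [if_pos rfl, Finset.sum_eq_zero fun x _ => if_neg (by have := x.1.2; omega), add_zero, if_pos rfl]
  · rw [if_neg hld, zero_add, if_neg hld]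
    by_cases h : l < d ∧ l ≠ m
    · rw [dif_pos h, Finset.sum_eq_single ⟨⟨l, h.1⟩, h.2⟩
        (fun x _ hx => if_neg fun h' => hx (Subtype.ext (Fin.ext h'.symm)))
        (fun hn => absurd (Finset.mem_univ _) hn), if_pos rfl]
    · rw [dif_neg h, Finset.sum_eq_zero fun x _ => if_neg fun h' => h ⟨by have := x.1.2; omega, by have := x.2; omega⟩]

theorem natDegree_Fp [Nontrivial R] : (Fp v).natDegree = m := by
  refine le_antisymm (natDegree_le_iff_coeff_eq_zero.2 fun l hl => ?_)
    (le_natDegree_of_ne_zero (by simp [coeff_Fp]))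
  rw [coeff_Fp, if_neg hl.ne', dif_neg (not_lt.2 hl.le)]

theorem natDegree_Gp_le : (Gp v).natDegree ≤ d :=
  natDegree_le_iff_coeff_eq_zero.2 fun l hl => by
    rw [coeff_Gp, if_neg hl.ne', dif_neg fun h => (not_lt.2 hl.le) h.1]

end

/-- The minors expressing ramification of index at least `e i` at the points. -/
noncomputable def minor {R : Type u} [CommRing R] (v : Sig n d m → R) (i : Fin n) (a b : ℕ) : R :=
  (taylor (v (.inl i)) (Fp v)).coeff a * (taylor (v (.inl i)) (Gp v)).coeff b -
    (taylor (v (.inl i)) (Fp v)).coeff b * (taylor (v (.inl i)) (Gp v)).coeff a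

/-- The expression whose vanishing says two points have the same image. -/
noncomputable def sep {R : Type u} [CommRing R] (v : Sig n d m → R) (i j : Fin n) : R :=
  (Fp v).eval (v (.inl i)) * (Gp v).eval (v (.inl j)) - (Fp v).eval (v (.inl j)) * (Gp v).eval (v (.inl i))

theorem map_minor {R S : Type u} [CommRing R] [CommRing S] (φ : R →+* S) (v : Sig n d m → R) (i : Fin n)
    (a b : ℕ) : φ (minor v i a b) = minor (φ ∘ v) i a b := by
  simp only [minor, map_sub, map_mul, ← coeff_map, map_taylor, map_Fp, map_Gp, Function.comp_apply]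

theorem map_sep {R S : Type u} [CommRing R] [CommRing S] (φ : R →+* S) (v : Sig n d m → R) (i j : Fin n) :
    φ (sep v i j) = sep (φ ∘ v) i j := by
  have key : ∀ (p : R[X]) (r : R), φ (p.eval r) = (p.map φ).eval (φ r) := fun p r => by
    rw [eval_map, eval₂_at_apply]
  simp only [sep, map_sub, map_mul, key, map_Fp, map_Gp, Function.comp_apply]

/-- The open conditions. -/
def Open {R : Type u} [CommRing R] (v : Sig n d m → R) : Prop :=
  wronskian (Fp v) (Gp v) ≠ 0 ∧ ∀ i, (Fp v).eval (v (.inl i)) ≠ 0 ∨ (Gp v).eval (v (.inl i)) ≠ 0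

theorem open_of_map {R S : Type u} [CommRing R] [CommRing S] (φ : R →+* S) (v : Sig n d m → R)
    (h : Open (φ ∘ v)) : Open v := by
  refine ⟨fun h0 => h.1 ?_, fun i => ?_⟩
  · have := congrArg (Polynomial.map φ) h0
    simpa [wronskian, Polynomial.map_sub, Polynomial.map_mul, ← derivative_map, map_Fp, map_Gp] using this
  · have key : ∀ (p : R[X]), p.eval (v (.inl i)) = 0 → (p.map φ).eval (φ (v (.inl i))) = 0 := fun p hp => by
      rw [eval_map, eval₂_at_apply, hp, map_zero]
    rcases h.2 i with h' | h'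
    · exact .inl fun h0 => h' (by simpa [map_Fp] using key _ h0)
    · exact .inr fun h0 => h' (by simpa [map_Gp] using key _ h0)

variable {k : Type u} [Field k]

theorem exists_coeff (E : Type u) [Field E] [Algebra k E] (P : Fin n → E) (hP : AlgebraicIndependent k P)
    (htr : Algebra.trdeg k E ≤ n) (b : E) :
    ∃ Q : Polynomial (MvPolynomial (Fin n) k),
      Q.eval₂ (MvPolynomial.aeval P).toRingHom b = 0 ∧ Q ≠ 0 ∧ (b ≠ 0 → Q.coeff 0 ≠ 0) := by
  have hT : IsTranscendenceBasis k P := hP.isTranscendenceBasis_of_lift_trdeg_le_of_finite (by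
    simpa using htr)
  haveI := hT.isAlgebraic
  have hb : IsAlgebraic (Algebra.adjoin k (Set.range P)) b := Algebra.IsAlgebraic.isAlgebraic b
  have hφ : ∀ z, (MvPolynomial.aeval P).toRingHom (hP.aevalEquiv.symm z) = (z : E) := fun z => by
    show MvPolynomial.aeval P (hP.aevalEquiv.symm z) = z
    rw [← hP.algebraMap_aevalEquiv, AlgEquiv.apply_symm_apply]
    rfl
  have key : ∀ q : Polynomial (Algebra.adjoin k (Set.range P)), aeval b q = 0 →
      (q.map hP.aevalEquiv.symm.toRingEquiv.toRingHom).eval₂ (MvPolynomial.aeval P).toRingHom b = 0 := fun q hq => by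
    rw [eval₂_map, ← hq, aeval_def]
    congr 1
    exact RingHom.ext hφ
  by_cases h0 : b = 0
  · exact ⟨X, by simp [h0], X_ne_zero, fun h => absurd h0 h⟩
  · obtain ⟨q, hq0, hq⟩ := hb.exists_nonzero_coeff_and_aeval_eq_zero (mem_nonZeroDivisors_of_ne_zero h0)
    have hne : (q.map hP.aevalEquiv.symm.toRingEquiv.toRingHom).coeff 0 ≠ 0 := by
      rw [coeff_map]
      exact (map_ne_zero_iff _ hP.aevalEquiv.symm.injective).2 hq0
    exact ⟨_, key q hq, fun h => hne (by rw [h, coeff_zero]), fun _ => hne⟩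

theorem chart_bound [IsAlgClosed k] (p : ℕ) [CharP k p] (e : Fin n → ℕ) (he1 : ∀ i, 1 ≤ e i)
    (hep : ∀ i, ¬ p ∣ e i) (hsum : (∑ i, e i) + 2 = 2 * d + n) (hm : m < d) :
    ∃ Φ : MvPolynomial (Fin n) k, Φ ≠ 0 ∧ ∀ P : Fin n → k, MvPolynomial.eval P Φ ≠ 0 →
      {x : Sig n d m → k | (∀ i, x (.inl i) = P i) ∧ Open x ∧
        ∀ i a b, a < e i → b < e i → minor x i a b = 0}.Finite ∧
      ∀ x : Sig n d m → k, (∀ i, x (.inl i) = P i) → Open x → (∀ i a b, a < e i → b < e i → minor x i a b = 0) →
        ∀ i j, i ≠ j → sep x i j ≠ 0 := by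
  classical
  let A := MvPolynomial (Sig n d m) k
  let vX : Sig n d m → A := MvPolynomial.X
  let I : Ideal A := Ideal.span {z | ∃ i a b, a < e i ∧ b < e i ∧ minor vX i a b = z}
  have hfin : I.minimalPrimes.Finite := Ideal.finite_minimalPrimes_of_isNoetherianRing A I
  -- the contribution of one component
  have comp : ∀ q ∈ I.minimalPrimes, ∃ g : MvPolynomial (Fin n) k, g ≠ 0 ∧ ∀ P : Fin n → k,
      MvPolynomial.eval P g ≠ 0 →
      {x : Sig n d m → k | (∀ i, x (.inl i) = P i) ∧ Open x ∧ q ≤ RingHom.ker (MvPolynomial.eval x)}.Finite ∧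
      ∀ x : Sig n d m → k, (∀ i, x (.inl i) = P i) → Open x → q ≤ RingHom.ker (MvPolynomial.eval x) →
        ∀ i j, i ≠ j → sep x i j ≠ 0 := by
    intro q hq
    haveI := hq.1.1
    let B := A ⧸ q
    let vB : Sig n d m → B := Ideal.Quotient.mk q ∘ vX
    let pB : MvPolynomial (Fin n) k →ₐ[k] B := MvPolynomial.aeval fun i => vB (.inl i)
    have hlift : ∀ (x : Sig n d m → k) (hx : q ≤ RingHom.ker (MvPolynomial.eval x)),
        (Ideal.Quotient.lift q (MvPolynomial.eval x) hx) ∘ vB = x := fun x hx =>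
      funext fun s => MvPolynomial.eval_X s
    have hliftp : ∀ (x : Sig n d m → k) (hx : q ≤ RingHom.ker (MvPolynomial.eval x)) (P : Fin n → k),
        (∀ i, x (.inl i) = P i) → ∀ g, Ideal.Quotient.lift q (MvPolynomial.eval x) hx (pB g) = MvPolynomial.eval P g := by
      intro x hx P hP g
      induction g using MvPolynomial.induction_on with
      | C a =>
        simp only [pB, MvPolynomial.aeval_C, MvPolynomial.eval_C]
        exact MvPolynomial.eval_C a
      | add g h hg hh => simp only [map_add, hg, hh]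
      | mul_X g i hg =>
        simp only [map_mul, hg, pB, MvPolynomial.aeval_X, MvPolynomial.eval_X]
        exact congrArg _ ((congrFun (hlift x hx) _).trans (hP i))
    by_cases hinj : Function.Injective pB
    swap
    · obtain ⟨g, hg, hg0⟩ : ∃ g, pB g = 0 ∧ g ≠ 0 := by
        rw [injective_iff_map_eq_zero] at hinj
        push Not at hinj
        exact hinj
      refine ⟨g, hg0, fun P hP => ⟨?_, fun x hx _ hxq => ?_⟩⟩
      · convert Set.finite_empty
        refine Set.eq_empty_iff_forall_notMem.2 fun x ⟨hx, _, hxq⟩ => hP ?_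
        rw [← hliftp x hxq P hx, hg, map_zero]
      · exact absurd (by rw [← hliftp x hxq P hx, hg, map_zero]) hP
    let E := FractionRing B
    let vE : Sig n d m → E := algebraMap B E ∘ vB
    by_cases hop : Open vE
    swap
    · have hno : ∀ x : Sig n d m → k, Open x → ¬ q ≤ RingHom.ker (MvPolynomial.eval x) := fun x hx hxq => by
        refine hop ?_
        have hB : Open vB := open_of_map (Ideal.Quotient.lift q (MvPolynomial.eval x) hxq) vB ((hlift x hxq).symm ▸ hx)
        refine ⟨fun h0 => hB.1 ?_, fun i => ?_⟩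
        · apply Polynomial.map_injective (algebraMap B E) (IsFractionRing.injective B E)
          rw [Polynomial.map_zero, ← h0]
          simp [vE, wronskian, Polynomial.map_sub, Polynomial.map_mul, ← derivative_map, map_Fp, map_Gp]
        · have key : ∀ r : B[X], r.eval (vB (.inl i)) ≠ 0 → (r.map (algebraMap B E)).eval (vE (.inl i)) ≠ 0 := by
            intro r hr
            rw [eval_map, show vE (.inl i) = algebraMap B E (vB (.inl i)) from rfl, eval₂_at_apply]
            exact (map_ne_zero_iff _ (IsFractionRing.injective B E)).2 hr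
          exact (hB.2 i).imp (fun h => by simpa [vE, map_Fp] using key _ h) (fun h => by simpa [vE, map_Gp] using key _ h)
      refine ⟨1, one_ne_zero, fun P _ => ⟨?_, fun x _ hx hxq => absurd hxq (hno x hx)⟩⟩
      convert Set.finite_empty
      exact Set.eq_empty_iff_forall_notMem.2 fun x ⟨_, hx, hxq⟩ => hno x hx hxq
    let PE : Fin n → E := fun i => vE (.inl i)
    have hPE : AlgebraicIndependent k PE := by
      have : (MvPolynomial.aeval PE : MvPolynomial (Fin n) k →ₐ[k] E) = (IsScalarTower.toAlgHom k B E).comp pB :=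
        MvPolynomial.algHom_ext fun i => by simp [pB, PE, vE]
      rw [algebraicIndependent_iff_injective_aeval, this]
      exact (IsFractionRing.injective B E).comp hinj
    haveI : Algebra.EssFiniteType B E := Algebra.EssFiniteType.of_isLocalization E (nonZeroDivisors B)
    haveI : Algebra.EssFiniteType k E := Algebra.EssFiniteType.comp k B E
    haveI : CharP E p := charP_of_injective_algebraMap (algebraMap k E).injective p
    have hgen : ∀ D : Derivation k E E, (∀ l, D ((Fp vE).coeff l) = 0) → (∀ l, D ((Gp vE).coeff l) = 0) →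
        (∀ i, D (PE i) = 0) → D = 0 := by
      intro D hF hG hP
      have hv : ∀ s, D (vE s) = 0 := by
        rintro (i | l | l)
        · exact hP i
        · simpa [coeff_Fp, l.2.ne, l.2] using hF l
        · simpa [coeff_Gp, l.1.2.ne, l.1.2, l.2] using hG l.1
      have hB : ∀ z : B, D (algebraMap B E z) = 0 := by
        intro z
        obtain ⟨z, rfl⟩ := Ideal.Quotient.mk_surjective z
        induction z using MvPolynomial.induction_on with
        | C a =>
          rw [show algebraMap B E (Ideal.Quotient.mk q (MvPolynomial.C a)) = algebraMap k E a from rfl,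
            Derivation.map_algebraMap]
        | add z w hz hw => rw [map_add, map_add, map_add, hz, hw, add_zero]
        | mul_X z s hz =>
          rw [map_mul, map_mul, Derivation.leibniz, hz, show algebraMap B E (Ideal.Quotient.mk q (MvPolynomial.X s)) = vE s from rfl,
            hv, smul_zero, smul_zero, add_zero]
      ext z
      obtain ⟨a, b, -, rfl⟩ := IsFractionRing.div_surjective B z
      simp [Derivation.leibniz_div, hB]
    obtain ⟨htr, htr'⟩ := bound PE e (Fp vE) (Gp vE) hPE.injective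
      he1 (fun i h => hep i ((CharP.cast_eq_zero_iff E p _).1 h)) hsum (natDegree_Fp vE) (by simp [coeff_Fp]) hm
      (natDegree_Gp_le vE) (by simp [coeff_Gp]) (by simp [coeff_Gp, hm.ne]) hop.1
      (fun i a b ha hb => sub_eq_zero.1 (by
        show minor vE i a b = 0
        rw [show vE = ((algebraMap B E).comp (Ideal.Quotient.mk q)) ∘ vX from rfl, ← map_minor, RingHom.comp_apply,
          Ideal.Quotient.eq_zero_iff_mem.2 (hq.1.2 (Ideal.subset_span ⟨i, a, b, ha, hb, rfl⟩)), map_zero]))
      hop.2 hgen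
    have hn : (n : Cardinal.{u}) ≤ Algebra.trdeg k E := by
      simpa using hPE.lift_cardinalMk_le_trdeg
    have hs : ∀ i j, i ≠ j → sep vE i j ≠ 0 := fun i j hij h =>
      absurd (htr' ⟨i, j, hij, sub_eq_zero.1 h⟩) (not_lt.2 hn)
    choose Q hQ hQ0 hQc using fun b : E => exists_coeff E PE hPE htr b
    have hQeval : ∀ (z : B) (x : Sig n d m → k) (hx : q ≤ RingHom.ker (MvPolynomial.eval x)) (P : Fin n → k),
        (∀ i, x (.inl i) = P i) → ((Q (algebraMap B E z)).map (MvPolynomial.eval P)).eval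
          (Ideal.Quotient.lift q (MvPolynomial.eval x) hx z) = 0 := by
      intro z x hx P hP
      have h := hQ (algebraMap B E z)
      rw [show (MvPolynomial.aeval PE).toRingHom = (algebraMap B E).comp pB.toRingHom from
        RingHom.ext fun g => by
          show MvPolynomial.aeval PE g = algebraMap B E (pB g)
          exact AlgHom.congr_fun (MvPolynomial.algHom_ext (f := MvPolynomial.aeval PE)
            (g := (IsScalarTower.toAlgHom k B E).comp pB) fun i => by simp [pB, PE, vE]) g] at h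
      rw [← hom_eval₂] at h
      have h' := congrArg (Ideal.Quotient.lift q (MvPolynomial.eval x) hx)
        ((map_eq_zero_iff _ (IsFractionRing.injective B E)).1 h)
      rw [map_zero, hom_eval₂] at h'
      rw [eval_map]
      rw [show (Ideal.Quotient.lift q (MvPolynomial.eval x) hx).comp pB.toRingHom = MvPolynomial.eval P from
        RingHom.ext fun g => hliftp x hx P hP g] at h'
      exact h'
    let g1 := ∏ s : Sig n d m, (Q (vE s)).leadingCoeff
    let g2 := ∏ p ∈ (Finset.univ : Finset (Fin n × Fin n)).filter (fun p => p.1 ≠ p.2), (Q (sep vE p.1 p.2)).coeff 0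
    refine ⟨g1 * g2, mul_ne_zero (Finset.prod_ne_zero_iff.2 fun s _ => leadingCoeff_ne_zero.2 (hQ0 _))
      (Finset.prod_ne_zero_iff.2 fun p hp => hQc _ (hs _ _ (Finset.mem_filter.1 hp).2)), fun P hP => ?_⟩
    simp only [g1, g2, map_mul, map_prod, mul_ne_zero_iff, Finset.prod_ne_zero_iff] at hP
    constructor
    · have hroots : ∀ s, {z : k | ((Q (vE s)).map (MvPolynomial.eval P)).IsRoot z}.Finite := fun s =>
        Polynomial.finite_setOfPred_isRoot fun h => hP.1 s (Finset.mem_univ _) (by
          have := congrArg (fun r : k[X] => r.coeff (Q (vE s)).natDegree) h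
          simpa [coeff_map] using this)
      refine (Set.Finite.pi' hroots).subset ?_
      rintro x ⟨hx, -, hxq⟩ s
      show ((Q (vE s)).map (MvPolynomial.eval P)).IsRoot (x s)
      conv => arg 2; rw [← congrFun (hlift x hxq) s]
      exact hQeval (vB s) x hxq P hx
    · intro x hx _ hxq i j hij h0
      have h1 := hQeval (sep vB i j) x hxq P hx
      rw [map_sep, hlift x hxq, h0, show algebraMap B E (sep vB i j) = sep vE i j from map_sep _ _ _ _,
        ← coeff_zero_eq_eval_zero, coeff_map] at h1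
      exact hP.2 (i, j) (Finset.mem_filter.2 ⟨Finset.mem_univ _, hij⟩) h1
  choose g hg hgood using comp
  refine ⟨∏ q ∈ hfin.toFinset.attach, g q.1 (hfin.mem_toFinset.1 q.2),
    Finset.prod_ne_zero_iff.2 fun q _ => hg _ _, fun P hP => ?_⟩
  rw [map_prod, Finset.prod_ne_zero_iff] at hP
  have hmem : ∀ x : Sig n d m → k, (∀ i a b, a < e i → b < e i → minor x i a b = 0) →
      ∃ q ∈ I.minimalPrimes, q ≤ RingHom.ker (MvPolynomial.eval x) := by
    intro x hx
    haveI : (RingHom.ker (MvPolynomial.eval x)).IsPrime := RingHom.ker_isPrime _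
    refine Ideal.exists_minimalPrimes_le (Ideal.span_le.2 ?_)
    rintro _ ⟨i, a, b, ha, hb, rfl⟩
    rw [SetLike.mem_coe, RingHom.mem_ker, map_minor]
    rw [show MvPolynomial.eval x ∘ vX = x from funext fun s => MvPolynomial.eval_X s]
    exact hx i a b ha hb
  constructor
  · refine (Set.Finite.biUnion (t := fun q => {x : Sig n d m → k | (∀ i, x (.inl i) = P i) ∧ Open x ∧
        q ∈ I.minimalPrimes ∧ q ≤ RingHom.ker (MvPolynomial.eval x)}) hfin fun q hq =>
      ((hgood q hq P (hP ⟨q, hfin.mem_toFinset.2 hq⟩ (Finset.mem_attach _ _))).1).subset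
        fun x h => ⟨h.1, h.2.1, h.2.2.2⟩).subset ?_
    rintro x ⟨hx, hop, hmin⟩
    obtain ⟨q, hq, hle⟩ := hmem x hmin
    exact Set.mem_iUnion₂.2 ⟨q, hq, hx, hop, hq, hle⟩
  · intro x hx hop hmin
    obtain ⟨q, hq, hle⟩ := hmem x hmin
    exact (hgood q hq P (hP ⟨q, hfin.mem_toFinset.2 hq⟩ (Finset.mem_attach _ _))).2 x hx hop hle

/-- Every pencil of the set lies in a chart. -/
theorem exists_chart (hd : 1 ≤ d) {e : Fin n → ℕ} {P : Fin n → k} {V : Submodule k k[X]}
    (hV : V ∈ ramMaps d P e) :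
    ∃ m, ∃ _ : m < d, ∃ x : Sig n d m → k, (∀ i, x (.inl i) = P i) ∧ Open x ∧
      (∀ i a b, a < e i → b < e i → minor x i a b = 0) ∧ V = Submodule.span k {Fp x, Gp x} := by
  classical
  obtain ⟨⟨hle, hrk, ⟨G', hG', hGdeg⟩, hbpf⟩, ⟨A₁, hA₁, A₂, hA₂, hW⟩, hram⟩ := hV
  haveI : Module.Finite k V := Module.finite_of_finrank_eq_succ hrk
  have hdeg : ∀ s ∈ V, s.natDegree ≤ d := fun s hs => Groth.Misc6.Pencil.natDegree_le_of_mem (hle hs)
  have hG'0 : G' ≠ 0 := by rintro rfl; rw [natDegree_zero] at hGdeg; omega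
  have hlc : G'.coeff d ≠ 0 := by rw [← hGdeg, coeff_natDegree]; exact leadingCoeff_ne_zero.2 hG'0
  let G0 := (G'.coeff d)⁻¹ • G'
  have hG0 : G0 ∈ V := V.smul_mem _ hG'
  have hG0d : G0.coeff d = 1 := by simp [G0, inv_mul_cancel₀ hlc]
  obtain ⟨s, hs, hs0⟩ : ∃ s ∈ V, s - s.coeff d • G0 ≠ 0 := by
    by_contra! h
    have hVle : V ≤ Submodule.span k {G0} := fun s hs =>
      Submodule.mem_span_singleton.2 ⟨s.coeff d, (sub_eq_zero.1 (h s hs)).symm⟩
    have := (Submodule.finrank_mono hVle).trans (finrank_span_le_card _)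
    simp [hrk] at this
  let F0 := s - s.coeff d • G0
  have hF0 : F0 ∈ V := sub_mem hs (V.smul_mem _ hG0)
  have hF0d : F0.coeff d = 0 := by simp [F0, hG0d]
  have hmlt : F0.natDegree < d := lt_of_le_of_ne (hdeg _ hF0) fun h =>
    leadingCoeff_ne_zero.2 hs0 (by rw [← coeff_natDegree, show (s - s.coeff d • G0).natDegree = d from h]; exact hF0d)
  set m := F0.natDegree with hmdef
  let F := F0.leadingCoeff⁻¹ • F0
  have hF : F ∈ V := V.smul_mem _ hF0
  have hFm : F.coeff m = 1 := by
    show (F0.leadingCoeff⁻¹ • F0).coeff F0.natDegree = 1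
    rw [coeff_smul, coeff_natDegree, smul_eq_mul, inv_mul_cancel₀ (leadingCoeff_ne_zero.2 hs0)]
  have hFd : F.coeff d = 0 := by simp [F, hF0d]
  have hFgt : ∀ l, m < l → F.coeff l = 0 := fun l hl => by
    simp [F, coeff_eq_zero_of_natDegree_lt (hmdef ▸ hl)]
  let G := G0 - G0.coeff m • F
  have hG : G ∈ V := sub_mem hG0 (V.smul_mem _ hF)
  have hGd : G.coeff d = 1 := by simp [G, hG0d, hFd]
  have hGm : G.coeff m = 0 := by simp [G, hFm]
  let x : Sig n d m → k := Sum.elim P (Sum.elim (fun l => F.coeff l) (fun l => G.coeff l.1))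
  have hxF : Fp x = F := by
    ext l
    rw [coeff_Fp]
    rcases lt_trichotomy l m with h | rfl | h
    · simp [h.ne, h, x]
    · simp [hFm]
    · simp [h.ne', not_lt.2 h.le, hFgt l h]
  have hxG : Gp x = G := by
    ext l
    rw [coeff_Gp]
    rcases eq_or_ne l d with rfl | hld
    · simp [hGd]
    rw [if_neg hld]
    by_cases h : l < d ∧ l ≠ m
    · rw [dif_pos h]; rfl
    · rw [dif_neg h]
      rcases eq_or_ne l m with rfl | hlm
      · exact hGm.symm
      · rw [coeff_eq_zero_of_natDegree_lt]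
        have := hdeg _ hG
        omega
  have hspan : V = Submodule.span k {F, G} := by
    have hli : LinearIndependent k ![F, G] := by
      rw [LinearIndependent.pair_iff]
      intro a b hab
      have hb : b = 0 := by simpa [hFd, hGd] using congrArg (fun r : k[X] => r.coeff d) hab
      refine ⟨?_, hb⟩
      simpa [hFm, hb] using congrArg (fun r : k[X] => r.coeff m) hab
    refine (Submodule.eq_of_le_of_finrank_eq (Submodule.span_le.2 ?_) ?_).symm
    · rintro _ (rfl | rfl) <;> assumption
    · rw [hrk, show ({F, G} : Set k[X]) = Set.range ![F, G] by simp [Set.pair_comm],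
        finrank_span_eq_card hli]
      rfl
  have hmem : ∀ s ∈ V, ∃ a b : k, s = a • F + b • G := fun s hs => by
    rw [hspan, Submodule.mem_span_pair] at hs
    obtain ⟨a, b, h⟩ := hs
    exact ⟨a, b, h.symm⟩
  refine ⟨m, hmlt, x, fun i => rfl, ⟨?_, fun i => ?_⟩, fun i a b ha hb => ?_, by rw [hxF, hxG]; exact hspan⟩
  · rw [hxF, hxG]
    intro h0
    obtain ⟨a, b, rfl⟩ := hmem _ hA₁
    obtain ⟨a', b', rfl⟩ := hmem _ hA₂
    rw [Groth.Misc6.Pencil.wronskian_smul_add, h0, mul_zero] at hW
    exact hW rfl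
  · rw [hxF, hxG]
    by_contra! h
    obtain ⟨s, hs, hs0⟩ := hbpf (P i)
    obtain ⟨a, b, rfl⟩ := hmem s hs
    exact hs0 (by simp only [eval_add, eval_smul]; rw [show x (.inl i) = P i from rfl] at h; simp [h.1, h.2])
  · obtain ⟨⟨s, hs, hs0, hse⟩, -⟩ := hram i
    obtain ⟨u, w, rfl⟩ := hmem s hs
    have hdvd := (le_rootMultiplicity_iff hs0).1 hse
    rw [X_sub_C_pow_dvd_iff, ← taylor_apply, X_pow_dvd_iff] at hdvd
    have h1 := hdvd a ha
    have h2 := hdvd b hb
    simp only [map_add, LinearMap.map_smul, coeff_add, coeff_smul, smul_eq_mul] at h1 h2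
    show (taylor (P i) (Fp x)).coeff a * (taylor (P i) (Gp x)).coeff b -
      (taylor (P i) (Fp x)).coeff b * (taylor (P i) (Gp x)).coeff a = 0
    rw [hxF, hxG]
    rcases eq_or_ne u 0 with rfl | hu
    · rcases eq_or_ne w 0 with rfl | hw
      · simp at hs0
      · simp only [zero_mul, zero_add, mul_eq_zero, hw, false_or] at h1 h2
        rw [h1, h2]; ring
    · refine (mul_eq_zero.1 (?_ : u * _ = 0)).resolve_left hu
      linear_combination (taylor (P i) G).coeff b * h1 - (taylor (P i) G).coeff a * h2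

/-- Finiteness and separation for general points, with indices allowed to be one. -/
theorem main' [IsAlgClosed k] (p : ℕ) [CharP k p] (e : Fin n → ℕ) (he1 : ∀ i, 1 ≤ e i)
    (hep : ∀ i, ¬ p ∣ e i) (hsum : (∑ i, e i) + 2 = 2 * d + n) (hd : 1 ≤ d) :
    ∃ Φ : MvPolynomial (Fin n) k, Φ ≠ 0 ∧ ∀ P : Fin n → k, MvPolynomial.eval P Φ ≠ 0 →
      (ramMaps d P e).Finite ∧
        ∀ V ∈ ramMaps d P e, ∀ i j : Fin n, i ≠ j → ∀ s ∈ V, (s.IsRoot (P i) ∧ s.IsRoot (P j)) → s = 0 := by
  choose Φ hΦ0 hΦ using fun m : Fin d => chart_bound (k := k) (m := (m : ℕ)) p e he1 hep hsum m.2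
  refine ⟨∏ m, Φ m, Finset.prod_ne_zero_iff.2 fun m _ => hΦ0 m, fun P hP => ?_⟩
  rw [map_prod, Finset.prod_ne_zero_iff] at hP
  constructor
  · refine (Set.finite_iUnion fun m : Fin d => ((hΦ m P (hP m (Finset.mem_univ _))).1).image
      fun x => Submodule.span k {Fp x, Gp x}).subset ?_
    intro V hV
    obtain ⟨m, hm, x, hx, hop, hmin, rfl⟩ := exists_chart hd hV
    exact Set.mem_iUnion.2 ⟨⟨m, hm⟩, x, ⟨hx, hop, hmin⟩, rfl⟩
  · intro V hV i j hij s hs hroot
    obtain ⟨m, hm, x, hx, hop, hmin, rfl⟩ := exists_chart hd hV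
    have hsep := (hΦ ⟨m, hm⟩ P (hP _ (Finset.mem_univ _))).2 x hx hop hmin i j hij
    obtain ⟨u, w, rfl⟩ := Submodule.mem_span_pair.1 hs
    obtain ⟨h1, h2⟩ := hroot
    simp only [IsRoot.def, eval_add, eval_smul, smul_eq_mul] at h1 h2
    simp only [sep, hx] at hsep
    have hu : u = 0 := (mul_eq_zero.1 (show u * ((Fp x).eval (P i) * (Gp x).eval (P j) -
      (Fp x).eval (P j) * (Gp x).eval (P i)) = 0 by
        linear_combination (Gp x).eval (P j) * h1 - (Gp x).eval (P i) * h2)).resolve_right hsep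
    have hw : w = 0 := (mul_eq_zero.1 (show w * ((Fp x).eval (P i) * (Gp x).eval (P j) -
      (Fp x).eval (P j) * (Gp x).eval (P i)) = 0 by
        linear_combination (Fp x).eval (P i) * h2 - (Fp x).eval (P j) * h1)).resolve_right hsep
    simp [hu, hw]

/-- Finiteness and separation for general points. -/
theorem main [IsAlgClosed k] (p : ℕ) [CharP k p] (e : Fin n → ℕ) (he : Admissible p d e) :
    ∃ Φ : MvPolynomial (Fin n) k, Φ ≠ 0 ∧ ∀ P : Fin n → k, MvPolynomial.eval P Φ ≠ 0 →
      (ramMaps d P e).Finite ∧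
        ∀ V ∈ ramMaps d P e, ∀ i j : Fin n, i ≠ j → ∀ s ∈ V, (s.IsRoot (P i) ∧ s.IsRoot (P j)) → s = 0 := by
  have hd : 1 ≤ d := by
    have h2 := he.2
    rcases n with _ | n
    · omega
    · have := (he.1 0).1; have := (he.1 0).2.1; omega
  exact main' p e (fun i => by have := (he.1 i).1; omega) (fun i => (he.1 i).2.2) he.2 hd

end Groth.RamGeneric
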