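import Mathlib
import Groth.Agent.RamGeneric.Chart
import Groth.Agent.S19560

/-! The bijection flipping two ramification indices `e ↦ p - e`. -/

set_option autoImplicit false
universe u

namespace Groth.RamGeneric

open Polynomial W4c1limliniiii

variable {k : Type u} [Field k] {n d : ℕ}

theorem flip_identity {p r s t w : ℕ} [CharP k p] (hs : s + 1 + (r + 1) = p) (hw : w + 1 + (t + 1) = p)
    (a b : k) (A B : k[X]) :
    wronskian ((X - C a) ^ (s + 1) * B) ((X - C b) ^ (w + 1) * A) * ((X - C a) ^ (2 * (r + 1)) * (X - C b) ^ (2 * (t + 1))) =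
      - ((X - C a) ^ p * (X - C b) ^ p) * wronskian ((X - C a) ^ (r + 1) * A) ((X - C b) ^ (t + 1) * B) := by
  have h1 : ((s : k[X]) + 1 + ((r : k[X]) + 1)) = 0 := by
    rw [← CharP.cast_eq_zero k[X] p]; exact_mod_cast congrArg (fun x : ℕ => (x : k[X])) hs
  have h2 : ((w : k[X]) + 1 + ((t : k[X]) + 1)) = 0 := by
    rw [← CharP.cast_eq_zero k[X] p]; exact_mod_cast congrArg (fun x : ℕ => (x : k[X])) hw
  have e1 : (X - C a) ^ p = (X - C a) ^ (s + 1 + (r + 1)) := by rw [hs]
  have e2 : (X - C b) ^ p = (X - C b) ^ (w + 1 + (t + 1)) := by rw [hw]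
  rw [e1, e2, wronskian, wronskian]
  simp only [derivative_mul, derivative_X_sub_C_pow, Nat.add_sub_cancel, C_eq_natCast, Nat.cast_add, Nat.cast_one,
    map_add, map_one]
  generalize X - C a = u
  generalize X - C b = v
  linear_combination (A * B * u ^ (2 * r + s + 3) * v ^ (w + 2 * t + 2)) * h2 -
    (A * B * u ^ (2 * r + s + 2) * v ^ (w + 2 * t + 3)) * h1

theorem exists_of_mem {P : Fin n → k} {e : Fin n → ℕ} {V : Submodule k k[X]} (hV : V ∈ ramMaps d P e) (l : Fin n) :
    ∃ A : k[X], (X - C (P l)) ^ e l * A ∈ V ∧ A.eval (P l) ≠ 0 ∧ A ≠ 0 := by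
  obtain ⟨⟨s, hs, hs0, hse⟩, hmax⟩ := hV.2.2 l
  have heq : rootMultiplicity (P l) s = e l := le_antisymm (hmax s hs hs0) hse
  obtain ⟨A, hA, hA'⟩ := exists_eq_pow_rootMultiplicity_mul_and_not_dvd s hs0 (P l)
  rw [dvd_iff_isRoot] at hA'
  rw [heq] at hA
  exact ⟨A, hA ▸ hs, hA', fun h => hA' (by simp [h])⟩

theorem span_eq_of_mem {P : Fin n → k} {e : Fin n → ℕ} {V : Submodule k k[X]} (hV : V ∈ ramMaps d P e)
    {F G : k[X]} (hF : F ∈ V) (hG : G ∈ V) (hli : LinearIndependent k ![F, G]) :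
    Submodule.span k {F, G} = V := by
  obtain ⟨-, hrk, -, -⟩ := hV.1
  haveI : Module.Finite k V := Module.finite_of_finrank_eq_succ hrk
  refine Submodule.eq_of_le_of_finrank_eq (Submodule.span_le.2 ?_) ?_
  · rintro _ (rfl | rfl) <;> assumption
  · rw [hrk, show ({F, G} : Set k[X]) = Set.range ![F, G] by simp [Set.pair_comm], finrank_span_eq_card hli]
    rfl

theorem rootMultiplicity_neg' {q : k[X]} (hq : q ≠ 0) (a : k) : rootMultiplicity a (-q) = rootMultiplicity a q := by
  rw [show -q = C (-1) * q by simp, rootMultiplicity_mul (mul_ne_zero (by simp) hq), rootMultiplicity_C, zero_add]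

/-- Wronskian multiplicities are forced by the degree. -/
theorem rootMultiplicity_wronskian {P : Fin n → k} (hP : Function.Injective P) {e : Fin n → ℕ} (he1 : ∀ l, 1 ≤ e l)
    (hsum : (∑ l, e l) + 2 = 2 * d + n) {V : Submodule k k[X]} (hV : V ∈ ramMaps d P e) {F G : k[X]}
    (hspan : Submodule.span k {F, G} = V) :
    wronskian F G ≠ 0 ∧ ∀ l, (wronskian F G).rootMultiplicity (P l) = e l - 1 := by
  classical
  have hmem : ∀ s ∈ V, ∃ x y : k, s = x • F + y • G := fun s hs => by
    rw [← hspan, Submodule.mem_span_pair] at hs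
    obtain ⟨x, y, h⟩ := hs
    exact ⟨x, y, h.symm⟩
  have hW : wronskian F G ≠ 0 := by
    intro h0
    obtain ⟨A₁, hA₁, A₂, hA₂, hW⟩ := hV.2.1
    obtain ⟨x, y, rfl⟩ := hmem _ hA₁
    obtain ⟨x', y', rfl⟩ := hmem _ hA₂
    rw [Groth.Misc6.Pencil.wronskian_smul_add, h0, mul_zero] at hW
    exact hW rfl
  have hFd : F.natDegree ≤ d := Groth.Misc6.Pencil.natDegree_le_of_mem (hV.1.1 (hspan ▸ Submodule.subset_span (by simp)))
  have hGd : G.natDegree ≤ d := Groth.Misc6.Pencil.natDegree_le_of_mem (hV.1.1 (hspan ▸ Submodule.subset_span (by simp)))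
  have hge : ∀ l, e l - 1 ≤ (wronskian F G).rootMultiplicity (P l) := fun l => by
    obtain ⟨A, hA, -, hA0⟩ := exists_of_mem hV l
    rw [le_rootMultiplicity_iff hW]
    obtain ⟨x, y, hxy⟩ := hmem _ hA
    have hd : (X - C (P l)) ^ e l ∣ x • F + y • G := hxy ▸ dvd_mul_right _ _
    have hs0 : (X - C (P l)) ^ e l * A ≠ 0 := mul_ne_zero (pow_ne_zero _ (X_sub_C_ne_zero _)) hA0
    by_cases hy : y = 0
    · subst hy
      have hx : x ≠ 0 := by rintro rfl; simp at hxy; exact hs0 (by simpa using hxy)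
      have h1 := Groth.Misc6.Pencil.pow_sub_one_dvd_wronskian G hd
      have : wronskian (x • F + (0 : k) • G) G = C x * wronskian F G := by
        simp only [wronskian, zero_smul, add_zero, smul_eq_C_mul, derivative_mul, derivative_C, zero_mul, zero_add]
        ring
      rw [this] at h1
      exact (IsUnit.dvd_mul_left (isUnit_C.2 hx.isUnit)).1 h1
    · have h1 := Groth.Misc6.Pencil.pow_sub_one_dvd_wronskian F hd
      have : wronskian (x • F + y • G) F = C (-y) * wronskian F G := by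
        simp only [wronskian, smul_eq_C_mul, derivative_add, derivative_mul, derivative_C, zero_mul, zero_add, map_neg]
        ring
      rw [this] at h1
      exact (IsUnit.dvd_mul_left (isUnit_C.2 (neg_ne_zero.2 hy).isUnit)).1 h1
  refine ⟨hW, fun l => le_antisymm ?_ (hge l)⟩
  have hdvd : ∏ j, (X - C (P j)) ^ ((wronskian F G).rootMultiplicity (P j)) ∣ wronskian F G :=
    Finset.prod_dvd_of_coprime (fun i _ j _ hij => (pairwise_coprime_X_sub_C hP hij).pow)
      fun j _ => pow_rootMultiplicity_dvd _ _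
  have hdeg := natDegree_le_of_dvd hdvd hW
  rw [natDegree_prod_of_monic _ _ fun i _ => (monic_X_sub_C _).pow _] at hdeg
  simp only [natDegree_pow, natDegree_X_sub_C, mul_one] at hdeg
  have hWdeg := Groth.Misc6.Pencil.natDegree_wronskian_le hFd hGd
  have h1 : ∑ j, (e j - 1) + n = ∑ j, e j := by
    conv_lhs => arg 2; rw [show n = ∑ _i : Fin n, 1 by simp]
    rw [← Finset.sum_add_distrib]
    exact Finset.sum_congr rfl fun i _ => Nat.sub_add_cancel (he1 i)
  by_contra hlt
  rw [not_le] at hlt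
  have h2 := Finset.sum_lt_sum (fun j _ => hge j) ⟨l, Finset.mem_univ _, hlt⟩
  omega

/-- The flipped data. -/
def flipE (p : ℕ) (e : Fin n → ℕ) (i j : Fin n) : Fin n → ℕ :=
  Function.update (Function.update e i (p - e i)) j (p - e j)

section Flip

variable [IsAlgClosed k] {p : ℕ} [CharP k p] {e : Fin n → ℕ} {i j : Fin n} {P : Fin n → k}

theorem flip_mem (hp : p.Prime) (hP : Function.Injective P) (he1 : ∀ l, 1 ≤ e l) (hlt : ∀ l, e l < p)
    (hed : e i ≤ d) (hed' : e j ≤ d) (hsum : (∑ l, e l) + 2 = 2 * d + n) (hij : i ≠ j) {V : Submodule k k[X]}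
    (hV : V ∈ ramMaps d P e) (hsep : ∀ s ∈ V, (s.IsRoot (P i) ∧ s.IsRoot (P j)) → s = 0) :
    ∃ A B : k[X], A.eval (P i) ≠ 0 ∧ B.eval (P j) ≠ 0 ∧
      Submodule.span k {(X - C (P i)) ^ e i * A, (X - C (P j)) ^ e j * B} = V ∧
      Submodule.span k {(X - C (P i)) ^ (p - e i) * B, (X - C (P j)) ^ (p - e j) * A} ∈
        ramMaps (d + p - e i - e j) P (flipE p e i j) := by
  classical
  obtain ⟨A, hAV, hA, hA0⟩ := exists_of_mem hV i
  obtain ⟨B, hBV, hB, hB0⟩ := exists_of_mem hV j
  have hab : P i ≠ P j := fun h => hij (hP h)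
  have hei := he1 i
  have hej := he1 j
  have hAj : A.eval (P j) ≠ 0 := fun h => by
    have := hsep _ hAV ⟨by simp [IsRoot, Nat.one_le_iff_ne_zero.1 hei], by simp [IsRoot, h]⟩
    exact mul_ne_zero (pow_ne_zero _ (X_sub_C_ne_zero _)) hA0 this
  have hBi : B.eval (P i) ≠ 0 := fun h => by
    have := hsep _ hBV ⟨by simp [IsRoot, h], by simp [IsRoot, Nat.one_le_iff_ne_zero.1 hej]⟩
    exact mul_ne_zero (pow_ne_zero _ (X_sub_C_ne_zero _)) hB0 this
  have hli : LinearIndependent k ![(X - C (P i)) ^ e i * A, (X - C (P j)) ^ e j * B] := by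
    rw [LinearIndependent.pair_iff]
    intro x y hxy
    have h1 := congrArg (eval (P i)) hxy
    have h2 := congrArg (eval (P j)) hxy
    simp [Nat.one_le_iff_ne_zero.1 hei, Nat.one_le_iff_ne_zero.1 hej, hAj, hBi, sub_ne_zero.2 hab,
      sub_ne_zero.2 hab.symm] at h1 h2
    exact ⟨h2, h1⟩
  have hspan := span_eq_of_mem hV hAV hBV hli
  refine ⟨A, B, hA, hB, hspan, ?_⟩
  obtain ⟨hW, hWm⟩ := rootMultiplicity_wronskian hP he1 hsum hV hspan
  obtain ⟨r, hr⟩ := Nat.exists_eq_add_of_le' hei
  obtain ⟨t, ht⟩ := Nat.exists_eq_add_of_le' hej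
  obtain ⟨s, hs⟩ : ∃ s, p - e i = s + 1 := ⟨p - e i - 1, by have := hlt i; omega⟩
  obtain ⟨w, hw⟩ : ∃ w, p - e j = w + 1 := ⟨p - e j - 1, by have := hlt j; omega⟩
  have hid := flip_identity (p := p) (r := r) (s := s) (t := t) (w := w) (by have := hlt i; omega)
    (by have := hlt j; omega) (P i) (P j) A B
  rw [← hr, ← hs, ← ht, ← hw] at hid
  set F' := (X - C (P i)) ^ (p - e i) * B with hF'
  set G' := (X - C (P j)) ^ (p - e j) * A with hG'
  have hpow : ∀ (c : k) (m : ℕ), (X - C c) ^ m ≠ 0 := fun c m => pow_ne_zero _ (X_sub_C_ne_zero _)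
  have hW' : wronskian F' G' ≠ 0 := by
    intro h0
    rw [h0, zero_mul] at hid
    exact mul_ne_zero (neg_ne_zero.2 (mul_ne_zero (hpow _ _) (hpow _ _))) hW hid.symm
  have hdeg : ∀ (c : k) (m : ℕ) (Q : k[X]), Q ≠ 0 → ((X - C c) ^ m * Q).natDegree = m + Q.natDegree := by
    intro c m Q hQ
    rw [natDegree_mul (hpow _ _) hQ, natDegree_pow, natDegree_X_sub_C, mul_one]
  have hdA : e i + A.natDegree ≤ d := hdeg _ _ A hA0 ▸ Groth.Misc6.Pencil.natDegree_le_of_mem (hV.1.1 hAV)
  have hdB : e j + B.natDegree ≤ d := hdeg _ _ B hB0 ▸ Groth.Misc6.Pencil.natDegree_le_of_mem (hV.1.1 hBV)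
  have hone : e i + A.natDegree = d ∨ e j + B.natDegree = d := by
    by_contra! hcon
    obtain ⟨g, hg, hgd⟩ := hV.1.2.2.1
    rw [← hspan, Submodule.mem_span_pair] at hg
    obtain ⟨x, y, rfl⟩ := hg
    have h1 := natDegree_smul_le x ((X - C (P i)) ^ e i * A)
    have h2 := natDegree_smul_le y ((X - C (P j)) ^ e j * B)
    have h3 := natDegree_add_le (x • ((X - C (P i)) ^ e i * A)) (y • ((X - C (P j)) ^ e j * B))
    rw [hdeg _ _ _ hA0] at h1
    rw [hdeg _ _ _ hB0] at h2
    omega
  have hF'd : F'.natDegree = p - e i + B.natDegree := hdeg _ _ B hB0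
  have hG'd : G'.natDegree = p - e j + A.natDegree := hdeg _ _ A hA0
  have hli' : LinearIndependent k ![F', G'] := by
    rw [LinearIndependent.pair_iff]
    intro x y hxy
    have h1 := congrArg (eval (P i)) hxy
    have h2 := congrArg (eval (P j)) hxy
    simp [hF', hG', hs, hw, hA, hB, sub_ne_zero.2 hab, sub_ne_zero.2 hab.symm] at h1 h2
    exact ⟨h2, h1⟩
  have hlti := hlt i
  have hltj := hlt j
  have hpen : IsPencil (d + p - e i - e j) (Submodule.span k {F', G'}) := by
    refine ⟨Submodule.span_le.2 ?_, ?_, ?_, fun c => ?_⟩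
    · rintro _ (rfl | rfl) <;> refine Groth.Misc6.Pencil.mem_of_natDegree_le ?_ <;> omega
    · rw [show ({F', G'} : Set k[X]) = Set.range ![F', G'] by simp [Set.pair_comm], finrank_span_eq_card hli']
      rfl
    · rcases hone with h | h
      · exact ⟨G', Submodule.subset_span (by simp), by omega⟩
      · exact ⟨F', Submodule.subset_span (by simp), by omega⟩
    · by_contra! h
      have h1 := h F' (Submodule.subset_span (by simp))
      have h2 := h G' (Submodule.subset_span (by simp))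
      simp only [hF', hG', eval_mul, eval_pow, eval_sub, eval_X, eval_C] at h1 h2
      rcases mul_eq_zero.1 h1 with h1 | h1
      · have hc := sub_eq_zero.1 (eq_zero_of_pow_eq_zero h1)
        subst hc
        rcases mul_eq_zero.1 h2 with h2 | h2
        · exact hab (sub_eq_zero.1 (eq_zero_of_pow_eq_zero h2))
        · exact hA h2
      · rcases mul_eq_zero.1 h2 with h2 | h2
        · have hc := sub_eq_zero.1 (eq_zero_of_pow_eq_zero h2)
          subst hc
          exact hB h1
        · obtain ⟨g, hg, hg0⟩ := hV.1.2.2.2 c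
          rw [← hspan, Submodule.mem_span_pair] at hg
          obtain ⟨x, y, rfl⟩ := hg
          exact hg0 (by simp [h1, h2])
  have hbar : ∀ l, (wronskian F' G').rootMultiplicity (P l) + 1 = flipE p e i j l := by
    intro l
    have h0 := congrArg (rootMultiplicity (P l)) hid
    have hL : wronskian F' G' * ((X - C (P i)) ^ (2 * e i) * (X - C (P j)) ^ (2 * e j)) ≠ 0 :=
      mul_ne_zero hW' (mul_ne_zero (hpow _ _) (hpow _ _))
    rw [rootMultiplicity_mul hL, rootMultiplicity_mul (mul_ne_zero (hpow _ _) (hpow _ _)), neg_mul,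
      rootMultiplicity_neg' (mul_ne_zero (mul_ne_zero (hpow _ _) (hpow _ _)) hW), rootMultiplicity_mul (mul_ne_zero (mul_ne_zero (hpow _ _) (hpow _ _)) hW),
      rootMultiplicity_mul (mul_ne_zero (hpow _ _) (hpow _ _)), hWm l] at h0
    have hkey : ∀ (q : Fin n) (m : ℕ), rootMultiplicity (P l) ((X - C (P q)) ^ m) = if l = q then m else 0 := by
      intro q m
      split_ifs with h
      · rw [h, rootMultiplicity_X_sub_C_pow]
      · exact rootMultiplicity_eq_zero (by
          simp [IsRoot, sub_ne_zero.2 (fun h' => h (hP h'))])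
    rw [hkey, hkey, hkey, hkey] at h0
    have := he1 l
    rcases eq_or_ne l j with rfl | hlj
    · rw [flipE, Function.update_self]
      simp [hij.symm] at h0
      omega
    rcases eq_or_ne l i with rfl | hli
    · rw [flipE, Function.update_of_ne hlj, Function.update_self]
      simp [hlj] at h0
      omega
    · rw [flipE, Function.update_of_ne hlj, Function.update_of_ne hli]
      simp [hlj, hli] at h0
      omega
  refine ⟨hpen, ⟨F', Submodule.subset_span (by simp), G', Submodule.subset_span (by simp), hW'⟩, fun l => ?_⟩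
  refine (Groth.Agent.S19560.result k p _ F' G' hpen hW' (P l) _ (hbar l) (.inr ?_)).1
  have h1 := hlt l
  unfold flipE
  rcases eq_or_ne l j with rfl | hlj
  · rw [Function.update_self]; omega
  rcases eq_or_ne l i with rfl | hli
  · rw [Function.update_of_ne hlj, Function.update_self]; omega
  · rw [Function.update_of_ne hlj, Function.update_of_ne hli]; omega

/-- A member of a pencil vanishing at a given point is unique up to scalar. -/
theorem proportional {F G : k[X]} {a : k} (hF : F.eval a = 0) (hG : G.eval a ≠ 0) {H : k[X]}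
    (hH : H ∈ Submodule.span k {F, G}) (hHa : H.eval a = 0) : ∃ c : k, H = c • F := by
  obtain ⟨x, y, rfl⟩ := Submodule.mem_span_pair.1 hH
  simp [hF, hG] at hHa
  exact ⟨x, by simp [hHa]⟩

theorem card_le (hp : p.Prime) (hP : Function.Injective P) (he1 : ∀ l, 1 ≤ e l) (hlt : ∀ l, e l < p)
    (hed : e i ≤ d) (hed' : e j ≤ d) (hsum : (∑ l, e l) + 2 = 2 * d + n) (hij : i ≠ j)
    (hsep : ∀ V ∈ ramMaps d P e, ∀ s ∈ V, (s.IsRoot (P i) ∧ s.IsRoot (P j)) → s = 0)
    (hfin : (ramMaps (d + p - e i - e j) P (flipE p e i j)).Finite) :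
    Nat.card (ramMaps d P e) ≤ Nat.card (ramMaps (d + p - e i - e j) P (flipE p e i j)) := by
  choose A B hA hB hspan hmem using fun V : ramMaps d P e =>
    flip_mem hp hP he1 hlt hed hed' hsum hij V.2 (hsep V.1 V.2)
  haveI := hfin.to_subtype
  refine Nat.card_le_card_of_injective (fun V => ⟨_, hmem V⟩) fun V V' h => ?_
  have h' := congrArg Subtype.val h
  simp only at h'
  have hab : P i ≠ P j := fun h => hij (hP h)
  have hi0 : p - e i ≠ 0 := by have := hlt i; omega
  have hj0 : p - e j ≠ 0 := by have := hlt j; omega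
  -- the members with prescribed zeros
  obtain ⟨c, hc⟩ := proportional (F := (X - C (P i)) ^ (p - e i) * B V) (G := (X - C (P j)) ^ (p - e j) * A V)
    (a := P i) (by simp [zero_pow hi0]) (by simp [sub_ne_zero.2 hab, hA V]) (H := (X - C (P i)) ^ (p - e i) * B V')
    (by rw [h']; exact Submodule.subset_span (by simp)) (by simp [zero_pow hi0])
  obtain ⟨c', hc'⟩ := proportional (F := (X - C (P j)) ^ (p - e j) * A V) (G := (X - C (P i)) ^ (p - e i) * B V)
    (a := P j) (by simp [zero_pow hj0]) (by simp [sub_ne_zero.2 hab.symm, hB V]) (H := (X - C (P j)) ^ (p - e j) * A V')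
    (by rw [Set.pair_comm, h']; exact Submodule.subset_span (by simp)) (by simp [zero_pow hj0])
  rw [smul_eq_C_mul, mul_left_comm] at hc hc'
  have hB' := mul_left_cancel₀ (pow_ne_zero _ (X_sub_C_ne_zero _)) hc
  have hA' := mul_left_cancel₀ (pow_ne_zero _ (X_sub_C_ne_zero _)) hc'
  have hc0 : c ≠ 0 := by rintro rfl; exact hB V' (by simp [hB'])
  have hc0' : c' ≠ 0 := by rintro rfl; exact hA V' (by simp [hA'])
  refine Subtype.ext ?_
  rw [← hspan V, ← hspan V', hA', hB', ← mul_left_comm (C c') _ (A V), ← mul_left_comm (C c) _ (B V),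
    ← smul_eq_C_mul, ← smul_eq_C_mul, Submodule.span_insert, Submodule.span_insert,
    Submodule.span_singleton_smul_eq hc0'.isUnit, Submodule.span_singleton_smul_eq hc0.isUnit]

end Flip

theorem flip_generic [IsAlgClosed k] (p : ℕ) [CharP k p] (hp : p.Prime) (e : Fin n → ℕ) (he : Admissible p d e)
    (hlt : ∀ l, e l < p) (i j : Fin n) (hij : i ≠ j) :
    ∃ Φ : MvPolynomial (Fin n) k, Φ ≠ 0 ∧ ∀ P : Fin n → k, MvPolynomial.eval P Φ ≠ 0 →
      (ramMaps d P e).Finite ∧ (ramMaps (d + p - e i - e j) P (flipE p e i j)).Finite ∧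
        Nat.card (ramMaps d P e) = Nat.card (ramMaps (d + p - e i - e j) P (flipE p e i j)) := by
  classical
  have he1 : ∀ l, 1 ≤ e l := fun l => by have := (he.1 l).1; omega
  have hed := (he.1 i).2.1
  have hed' := (he.1 j).2.1
  set e' := flipE p e i j with he'def
  set d' := d + p - e i - e j with hd'def
  have hi' : e' i = p - e i := by simp [he'def, flipE, hij]
  have hj' : e' j = p - e j := by simp [he'def, flipE]
  have hlti := hlt i
  have hltj := hlt j
  have hb : ∀ l, 1 ≤ e' l ∧ e' l < p := fun l => by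
    rcases eq_or_ne l j with rfl | hlj
    · have := he1 l; omega
    rcases eq_or_ne l i with rfl | hli
    · have := he1 l; omega
    · rw [show e' l = e l by simp [he'def, flipE, hlj, hli]]
      exact ⟨he1 l, hlt l⟩
  have hsum' : (∑ l, e' l) + 2 = 2 * d' + n := by
    have hi1 := he1 i
    have hj1 := he1 j
    have h0 : ∀ f : Fin n → ℕ, ∑ l, f l = f i + f j + ∑ l ∈ ((Finset.univ.erase i).erase j), f l := fun f => by
      rw [add_assoc, Finset.add_sum_erase _ f (Finset.mem_erase.2 ⟨hij.symm, Finset.mem_univ _⟩),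
        Finset.add_sum_erase _ f (Finset.mem_univ _)]
    have h1 : ∑ l ∈ ((Finset.univ.erase i).erase j), e' l = ∑ l ∈ ((Finset.univ.erase i).erase j), e l :=
      Finset.sum_congr rfl fun l hl => by
        simp only [Finset.mem_erase] at hl
        simp [he'def, flipE, hl.1, hl.2.1]
    have h2 := he.2
    rw [h0 e] at h2
    rw [h0 e', h1, hi', hj']
    omega
  have hndvd : ∀ l, ¬ p ∣ e' l := fun l h => by
    have := Nat.le_of_dvd (hb l).1 h
    have := (hb l).2
    omega
  obtain ⟨Φ₁, hΦ₁, h₁⟩ := main' (k := k) (d := d) p e he1 (fun l => (he.1 l).2.2) he.2 (by have := he1 i; omega)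
  obtain ⟨Φ₂, hΦ₂, h₂⟩ := main' (k := k) (d := d') p e' (fun l => (hb l).1) hndvd hsum' (by omega)
  refine ⟨Φ₁ * Φ₂ * ∏ q ∈ (Finset.univ : Finset (Fin n × Fin n)).filter (fun q => q.1 ≠ q.2),
    (MvPolynomial.X q.1 - MvPolynomial.X q.2), mul_ne_zero (mul_ne_zero hΦ₁ hΦ₂) (Finset.prod_ne_zero_iff.2
      fun q hq => sub_ne_zero.2 fun h => (Finset.mem_filter.1 hq).2 (MvPolynomial.X_injective h)), fun P hP => ?_⟩
  simp only [map_mul, map_prod, map_sub, MvPolynomial.eval_X, mul_ne_zero_iff, Finset.prod_ne_zero_iff] at hP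
  have hinj : Function.Injective P := fun a b h => by
    by_contra hne
    exact hP.2 (a, b) (Finset.mem_filter.2 ⟨Finset.mem_univ _, hne⟩) (sub_eq_zero.2 h)
  obtain ⟨hf₁, hs₁⟩ := h₁ P hP.1.1
  obtain ⟨hf₂, hs₂⟩ := h₂ P hP.1.2
  refine ⟨hf₁, hf₂, le_antisymm
    (card_le hp hinj he1 hlt hed hed' he.2 hij (fun V hV => hs₁ V hV i j hij) hf₂) ?_⟩
  have h3 := card_le (k := k) (P := P) (e := e') (d := d') (i := i) (j := j) hp hinj (fun l => (hb l).1)
    (fun l => (hb l).2) (by omega) (by omega) hsum' hij (fun V hV => hs₂ V hV i j hij)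
  have hd'' : d' + p - e' i - e' j = d := by rw [hi', hj']; omega
  have he'' : flipE p e' i j = e := funext fun l => by
    rcases eq_or_ne l j with rfl | hlj
    · simp [flipE, hj']; omega
    rcases eq_or_ne l i with rfl | hli
    · simp [flipE, hlj, hi']; omega
    · simp [flipE, he'def, hlj, hli]
  rw [hd'', he''] at h3
  exact h3 hf₁

end Groth.RamGeneric
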